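import Mathlib.Topology.Sheaves.SheafCondition.UniqueGluing
import Mathlib.Algebra.Category.Grp.Limits
import Mathlib.Algebra.Category.Grp.Basic
import Mathlib.Order.Zorn

/-! Surjectivity on sections for an extension with flasque kernel of sheaves of groups. -/

universe u

open CategoryTheory TopologicalSpace Opposite

namespace Groth.L10.Flasque

variable {X : TopCat.{u}} (F : TopCat.Presheaf GrpCat.{u} X)

/-- Restriction of sections. -/
abbrev rs {V W : Opens X} (h : W ≤ V) : F.obj (op V) →* F.obj (op W) := (F.map (homOfLE h).op).hom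

theorem rs_rs {V W Z : Opens X} (h : W ≤ V) (h' : Z ≤ W) (s : F.obj (op V)) :
    rs F h' (rs F h s) = rs F (h'.trans h) s := by
  change (F.map (homOfLE h).op ≫ F.map (homOfLE h').op).hom s = _
  rw [← F.map_comp]
  rfl

theorem rs_refl {V : Opens X} (h : V ≤ V) (s : F.obj (op V)) : rs F h s = s := by
  change (F.map (𝟙 (op V))).hom s = s
  rw [F.map_id]
  rfl

theorem app_rs {G : TopCat.Presheaf GrpCat.{u} X} (α : F ⟶ G) {V W : Opens X} (h : W ≤ V) (s : F.obj (op V)) :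
    (α.app (op W)).hom (rs F h s) = rs G h ((α.app (op V)).hom s) := by
  change (F.map (homOfLE h).op ≫ α.app (op W)).hom s = _
  rw [α.naturality]
  rfl

theorem exists_glue (hF : F.IsSheaf) {ι : Type u} (W : ι → Opens X) (V : Opens X) (hW : ∀ i, W i ≤ V)
    (hcov : V ≤ iSup W) (sf : ∀ i, F.obj (op (W i)))
    (h : ∀ i j, rs F (inf_le_left : W i ⊓ W j ≤ W i) (sf i) = rs F (inf_le_right : W i ⊓ W j ≤ W j) (sf j)) :
    ∃ s : F.obj (op V), ∀ i, rs F (hW i) s = sf i := by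
  obtain ⟨s, hs, -⟩ := TopCat.Sheaf.existsUnique_gluing' (⟨F, hF⟩ : TopCat.Sheaf GrpCat X) W V
    (fun i => homOfLE (hW i)) hcov sf h
  exact ⟨s, hs⟩

theorem eq_of_local (hF : F.IsSheaf) {ι : Type u} (W : ι → Opens X) (V : Opens X) (hW : ∀ i, W i ≤ V)
    (hcov : V ≤ iSup W) (s t : F.obj (op V)) (h : ∀ i, rs F (hW i) s = rs F (hW i) t) : s = t :=
  TopCat.Sheaf.eq_of_locally_eq' (⟨F, hF⟩ : TopCat.Sheaf GrpCat X) W V (fun i => homOfLE (hW i)) hcov s t h

variable {F} {G H : TopCat.Presheaf GrpCat.{u} X} {α : F ⟶ G} {β : G ⟶ H}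

/-- A lift of a section over a smaller open. -/
structure Lift (β : G ⟶ H) {U : Opens X} (s : H.obj (op U)) where
  V : Opens X
  le : V ≤ U
  g : G.obj (op V)
  eq : (β.app (op V)).hom g = rs H le s

theorem surjective (hG : G.IsSheaf) (hH : H.IsSheaf)
    (hex : ∀ (U : Opens X) (g : G.obj (op U)), (β.app (op U)).hom g = 1 ↔ g ∈ Set.range (α.app (op U)).hom)
    (hβ : ∀ (U : Opens X) (s : H.obj (op U)) (x : X), x ∈ U →
      ∃ (V : Opens X) (hV : V ≤ U), x ∈ V ∧ ∃ g : G.obj (op V), (β.app (op V)).hom g = (H.map (homOfLE hV).op).hom s)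
    (hfl : ∀ (U V : Opens X) (hUV : V ≤ U), Function.Surjective (F.map (homOfLE hUV).op).hom) (U : Opens X) :
    Function.Surjective (β.app (op U)).hom := by
  intro s
  obtain ⟨m, hm⟩ := exists_maximal_of_chains_bounded
    (r := fun a b : Lift β s => ∃ h : a.V ≤ b.V, rs G h b.g = a.g) (fun c hc => by
      let V : Opens X := ⨆ a : c, a.1.V
      have hV : V ≤ U := iSup_le fun a => a.1.le
      have hcomp : ∀ a b : c, rs G (inf_le_left : a.1.V ⊓ b.1.V ≤ a.1.V) a.1.g =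
          rs G (inf_le_right : a.1.V ⊓ b.1.V ≤ b.1.V) b.1.g := fun a b => by
        by_cases hab : a = b
        · subst hab; rfl
        · rcases hc a.2 b.2 (fun e => hab (Subtype.ext e)) with ⟨h, e⟩ | ⟨h, e⟩
          · rw [← e, rs_rs]
          · rw [← e, rs_rs]
      obtain ⟨g, hg⟩ := exists_glue G hG (fun a : c => a.1.V) V (le_iSup (fun a : c => a.1.V)) le_rfl
        (fun a => a.1.g) hcomp
      refine ⟨⟨V, hV, g, eq_of_local H hH (fun a : c => a.1.V) V (le_iSup (fun a : c => a.1.V)) le_rfl _ _ fun a => ?_⟩,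
        fun a ha => ⟨le_iSup (fun a : c => a.1.V) ⟨a, ha⟩, hg ⟨a, ha⟩⟩⟩
      rw [← app_rs, hg a, a.1.eq, rs_rs])
    (fun {a b c} h₁ h₂ => by
      obtain ⟨h₁, e₁⟩ := h₁
      obtain ⟨h₂, e₂⟩ := h₂
      exact ⟨h₁.trans h₂, by rw [← rs_rs G h₂ h₁, e₂, e₁]⟩)
  have hle : U ≤ m.V := fun x hx => by
    obtain ⟨W, hW, hxW, g', hg'⟩ := hβ U s x hx
    obtain ⟨f, hf⟩ := (hex (m.V ⊓ W)
      (rs G (inf_le_right : m.V ⊓ W ≤ W) g' * (rs G (inf_le_left : m.V ⊓ W ≤ m.V) m.g)⁻¹)).1 (by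
      rw [map_mul, map_inv, app_rs, app_rs, m.eq, hg']
      change rs H inf_le_right (rs H hW s) * _ = 1
      rw [rs_rs, rs_rs, mul_inv_cancel])
    obtain ⟨f', hf'⟩ := hfl W (m.V ⊓ W) inf_le_right f
    let g'' : G.obj (op W) := ((α.app (op W)).hom f')⁻¹ * g'
    have hgg : rs G (inf_le_left : m.V ⊓ W ≤ m.V) m.g = rs G (inf_le_right : m.V ⊓ W ≤ W) g'' := by
      rw [map_mul, map_inv, ← app_rs]
      erw [hf', hf]
      rw [mul_inv_rev, inv_inv, mul_assoc, inv_mul_cancel, mul_one]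
    have hβ'' : (β.app (op W)).hom g'' = rs H hW s := by
      rw [map_mul, map_inv, (hex W _).2 ⟨f', rfl⟩, inv_one, one_mul]
      exact hg'
    let Wf : ULift.{u} Bool → Opens X := fun b => bif b.down then W else m.V
    have hWf : ∀ b, Wf b ≤ m.V ⊔ W := by rintro ⟨⟨⟩⟩; exacts [le_sup_left, le_sup_right]
    have hcov : m.V ⊔ W ≤ iSup Wf := sup_le (le_iSup Wf ⟨false⟩) (le_iSup Wf ⟨true⟩)
    let sf : ∀ b, G.obj (op (Wf b)) := fun | ⟨true⟩ => g'' | ⟨false⟩ => m.g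
    obtain ⟨g, hg⟩ := exists_glue G hG Wf (m.V ⊔ W) hWf hcov sf (by
      rintro ⟨⟨⟩⟩ ⟨⟨⟩⟩
      · rfl
      · exact hgg
      · have := congrArg (rs G (le_of_eq (inf_comm W m.V))) hgg
        rw [rs_rs, rs_rs] at this
        exact this.symm
      · rfl)
    obtain ⟨h, -⟩ := hm ⟨m.V ⊔ W, sup_le m.le hW, g, eq_of_local H hH Wf (m.V ⊔ W) hWf hcov _ _ (by
      rintro ⟨⟨⟩⟩
      · rw [← app_rs, hg, rs_rs]; exact m.eq
      · rw [← app_rs, hg, rs_rs]; exact hβ'')⟩ ⟨le_sup_left, hg ⟨false⟩⟩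
    exact h ((le_sup_right : W ≤ m.V ⊔ W) hxW)
  refine ⟨rs G hle m.g, ?_⟩
  rw [app_rs, m.eq, rs_rs, rs_refl]

theorem flasque (hsurj : ∀ U : Opens X, Function.Surjective (β.app (op U)).hom)
    (hflG : ∀ (U V : Opens X) (hUV : V ≤ U), Function.Surjective (G.map (homOfLE hUV).op).hom)
    (U V : Opens X) (hUV : V ≤ U) : Function.Surjective (H.map (homOfLE hUV).op).hom := fun s => by
  obtain ⟨g, rfl⟩ := hsurj V s
  obtain ⟨g', rfl⟩ := hflG U V hUV g
  exact ⟨(β.app (op U)).hom g', (app_rs G β hUV g').symm⟩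

end Groth.L10.Flasque
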